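import Cfsg.Agent.Lib.MTwelveUnique.General
import Cfsg.Agent.Lib.SmallGroups.MElevenDegrees.Main
import Cfsg.Agent.Lib.SmallGroups.PrimeRational
import Cfsg.Agent.Lib.Char.FrobeniusSchur
import Cfsg.Agent.Lib.Char.Integral
import Cfsg.Agent.Lib.Char.Ortho
import Cfsg.Agent.Lib.InvolChar.Basic
import Mathlib

/-!
Generalities on character values: integrality, bounds, and the number of square roots of an element
through the Frobenius–Schur indicator.
-/

set_option autoImplicit false

noncomputable section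

namespace CfsgLib.MTwelveUnique

open Subgroup CfsgLib.InvolChar Cfsg
open scoped ComplexConjugate
attribute [local instance] Classical.propDecidable

variable {G : Type*} [Group G] [Fintype G]

theorem eq_of_isConj (χ : IrrCharacter G) {a b : G} (h : IsConj a b) : (χ : G → ℂ) a = (χ : G → ℂ) b :=
  (CfsgLib.Char.isConj_iff_forall_irr a b).mp h χ

/-- The degree divides the class size times an integral value. -/
theorem deg_dvd_index_mul (χ : IrrCharacter G) {g : G} {z : ℤ} (hz : (χ : G → ℂ) g = (z : ℂ))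
    {h : ℕ} (hh : Nat.card (centralizer ({g} : Set G)) = h) :
    (((Nat.card G / h : ℕ) : ℤ) * z) % (deg χ : ℤ) = 0 := by
  have hi : (centralizer ({g} : Set G)).index = Nat.card G / h := by
    rw [← (centralizer ({g} : Set G)).card_mul_index, hh, Nat.mul_div_cancel_left _ (hh ▸ Nat.card_pos)]
  have h' := CfsgLib.Char.isIntegral_index_mul_div χ.2 g
  rw [hz, deg_spec χ, hi] at h'
  set m := (((Nat.card G / h : ℕ) : ℤ) * z) with hm
  obtain ⟨k, hk⟩ := CfsgLib.Char.exists_int_of_isIntegral_rat (q := (m : ℚ) / deg χ) (by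
    push_cast [hm] at h' ⊢
    exact h')
  have hd : (deg χ : ℚ) ≠ 0 := by exact_mod_cast (deg_pos χ).ne'
  rw [div_eq_iff hd] at hk
  have : m = k * deg χ := by exact_mod_cast hk
  rw [this, Int.mul_emod_left]

/-- In a non-abelian simple group a non-trivial element takes values smaller than the degree. -/
theorem sq_lt_deg_sq [IsSimpleGroup G] (hna : ¬ IsMulCommutative G) (χ : IrrCharacter G)
    (hχ : χ ≠ CfsgLib.Char.irrOne) {g : G} (hg : g ≠ 1) {z : ℤ} (hz : (χ : G → ℂ) g = (z : ℂ)) :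
    z * z < (deg χ : ℤ) * deg χ := by
  obtain ⟨n, ρ, hirr, hρ⟩ := χ.2
  have hn : (deg χ : ℂ) = (Module.finrank ℂ (Fin n → ℂ) : ℂ) := by
    rw [← deg_spec χ, ← hρ, Representation.char_one]
  have hn' : deg χ = Module.finrank ℂ (Fin n → ℂ) := by exact_mod_cast hn
  have hle : |(z : ℝ)| ≤ (deg χ : ℝ) := by
    rw [hn', ← Complex.norm_intCast, ← hz, ← hρ]
    exact CfsgLib.Char.norm_character_le ρ g
  have hne : |(z : ℝ)| ≠ (deg χ : ℝ) := by
    intro he
    rw [hn', ← Complex.norm_intCast, ← hz, ← hρ] at he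
    obtain ⟨ω, hω⟩ := (CfsgLib.Char.norm_character_eq_iff ρ g).mp he
    -- the kernel is trivial, so `g` would be central
    have hker : ∀ a : G, ρ a = 1 → a = 1 := by
      by_contra hcon
      push Not at hcon
      obtain ⟨a, ha, ha1⟩ := hcon
      let K : Subgroup G := ρ.toHomUnits.ker
      have haK : a ∈ K := MonoidHom.mem_ker.mpr (Units.ext ha)
      rcases Subgroup.Normal.eq_bot_or_eq_top (H := K) inferInstance with h | h
      · rw [h, Subgroup.mem_bot] at haK; exact ha1 haK
      · have hall : ∀ x : G, (χ : G → ℂ) x = (χ : G → ℂ) 1 := fun x => by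
          have hx : ρ.toHomUnits x = 1 := MonoidHom.mem_ker.mp (show x ∈ K by rw [h]; exact mem_top x)
          rw [← hρ]
          show LinearMap.trace ℂ _ (ρ x) = LinearMap.trace ℂ _ (ρ 1)
          rw [show ρ x = 1 from congrArg Units.val hx, map_one ρ]
        have h1 := CfsgLib.Char.classInner_irr_ne χ.2 (CfsgLib.Char.irrOne : IrrCharacter G).2
          (fun e => hχ (Subtype.ext e))
        rw [CfsgLib.Char.classInner_def] at h1
        simp only [hall, CfsgLib.Char.irrOne_apply, map_one, mul_one, Finset.sum_const, deg_spec,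
          nsmul_eq_mul, Finset.card_univ] at h1
        rw [← Nat.card_eq_fintype_card, ← mul_assoc, inv_mul_cancel₀ (by exact_mod_cast Nat.card_pos.ne'),
          one_mul] at h1
        exact (deg_pos χ).ne' (by exact_mod_cast h1)
    refine hg ((Subgroup.mem_bot).mp ?_)
    rw [← CfsgLib.SmallGroups.eq_bot_or_comm_of_centre hna, Subgroup.mem_center_iff]
    intro a
    have hc : ρ (a * g * a⁻¹) = ρ g := by
      rw [map_mul, map_mul, hω]
      refine LinearMap.ext fun v => ?_
      simp only [Module.End.mul_apply, LinearMap.smul_apply, LinearMap.id_apply, map_smul]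
      rw [← Module.End.mul_apply, ← map_mul, mul_inv_cancel, map_one, Module.End.one_apply]
    have := hker (a * g * a⁻¹ * g⁻¹) (by rw [map_mul, hc, ← map_mul, mul_inv_cancel, map_one])
    rw [mul_inv_eq_one] at this
    calc a * g = (a * g * a⁻¹) * a := by group
      _ = g * a := by rw [this]
  have hlt : |(z : ℝ)| < (deg χ : ℝ) := lt_of_le_of_ne hle hne
  have : (z.natAbs : ℤ) < (deg χ : ℤ) := by
    have h2 : ((|z| : ℤ) : ℝ) < ((deg χ : ℤ) : ℝ) := by push_cast; exact hlt
    rw [Int.abs_eq_natAbs] at h2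
    exact_mod_cast h2
  nlinarith [Int.natAbs_mul_self' z, Int.natCast_nonneg z.natAbs]

/-- Orthogonality for integral columns. -/
theorem sum_sq_val {g : G} (A : IrrCharacter G → ℤ) (hA : ∀ χ : IrrCharacter G, (χ : G → ℂ) g = (A χ : ℂ)) :
    ∑ χ, A χ * A χ = (Nat.card (centralizer ({g} : Set G)) : ℤ) := by
  have h := CfsgLib.Char.second_orthogonality g g
  rw [if_pos (IsConj.refl g)] at h
  simp only [hA, map_intCast] at h
  exact_mod_cast (h : _ = ((Nat.card (centralizer ({g} : Set G)) : ℕ) : ℂ))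

theorem sum_mul_val {g h : G} (hne : ¬ IsConj g h) (A A' : IrrCharacter G → ℤ)
    (hA : ∀ χ : IrrCharacter G, (χ : G → ℂ) g = (A χ : ℂ))
    (hA' : ∀ χ : IrrCharacter G, (χ : G → ℂ) h = (A' χ : ℂ)) : ∑ χ, A χ * A' χ = 0 := by
  have e := CfsgLib.Char.second_orthogonality g h
  rw [if_neg hne] at e
  simp only [hA, hA', map_intCast] at e
  exact_mod_cast e

theorem sum_deg_val {g : G} (hg : g ≠ 1) (A : IrrCharacter G → ℤ)
    (hA : ∀ χ : IrrCharacter G, (χ : G → ℂ) g = (A χ : ℂ)) : ∑ χ, (deg χ : ℤ) * A χ = 0 := by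
  have e := CfsgLib.Char.sum_degree_mul_apply g
  rw [if_neg hg] at e
  simp only [hA, deg_spec] at e
  exact_mod_cast e

theorem not_isConj_of_orderOf_ne {a b : G} (h : orderOf a ≠ orderOf b) : ¬ IsConj a b := fun hc => by
  obtain ⟨g, rfl⟩ := isConj_iff.mp hc
  exact h (orderOf_injective (MulAut.conj g).toMonoidHom (MulAut.conj g).injective a).symm

/-- The Frobenius–Schur indicator. -/
def nu (χ : IrrCharacter G) : ℂ := (Nat.card G : ℂ)⁻¹ * ∑ s : G, (χ : G → ℂ) (s * s)

theorem nu_cases (χ : IrrCharacter G) :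
    (nu χ = 1 ∨ nu χ = -1) ∨ (nu χ = 0 ∧ ¬ ∀ g, conj ((χ : G → ℂ) g) = (χ : G → ℂ) g) := by
  obtain ⟨n, ρ, hirr, hρ⟩ := χ.2
  haveI := hirr
  by_cases hr : ∀ g, conj ((χ : G → ℂ) g) = (χ : G → ℂ) g
  · left
    rcases CfsgLib.Char.fsIndicator_of_real ρ (by rw [hρ]; exact hr) with h | ⟨h, -⟩ <;>
      rw [hρ] at h
    · exact Or.inl h
    · exact Or.inr h
  · refine Or.inr ⟨?_, hr⟩
    have h := CfsgLib.Char.fsIndicator_of_not_real ρ (by rw [hρ]; exact hr)
    rwa [hρ] at h

theorem nu_eq_zero {χ : IrrCharacter G} {g : G} (hg : conj ((χ : G → ℂ) g) ≠ (χ : G → ℂ) g) :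
    nu χ = 0 := by
  obtain ⟨n, ρ, hirr, hρ⟩ := χ.2
  haveI := hirr
  have h := CfsgLib.Char.fsIndicator_of_not_real ρ (fun h => hg (by rw [← hρ]; exact h g))
  rwa [hρ] at h

theorem card_sq_roots (g : G) :
    (Nat.card {s : G // s * s = g} : ℂ) = ∑ χ : IrrCharacter G, nu χ * conj ((χ : G → ℂ) g) := by
  have hG : (Nat.card G : ℂ) ≠ 0 := by exact_mod_cast Nat.card_pos.ne'
  have h1 : ∀ χ : IrrCharacter G, nu χ * conj ((χ : G → ℂ) g) =
      (Nat.card G : ℂ)⁻¹ * ∑ s : G, (χ : G → ℂ) (s * s) * conj ((χ : G → ℂ) g) := fun χ => by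
    rw [nu, mul_assoc, Finset.sum_mul]
  rw [Finset.sum_congr rfl fun χ _ => h1 χ, ← Finset.mul_sum, Finset.sum_comm,
    Finset.sum_congr rfl fun s _ => CfsgLib.Char.second_orthogonality (s * s) g]
  rw [← Finset.sum_filter, Finset.sum_congr rfl
    (g := fun _ => (Nat.card (centralizer ({g} : Set G)) : ℂ)) fun s hs => ?_,
    Finset.sum_const, nsmul_eq_mul, ← Fintype.card_subtype, ← Nat.card_eq_fintype_card]
  swap
  · have hs' : IsConj (s * s) g := (Finset.mem_filter.mp hs).2
    have e : Nat.card {x : G // IsConj (s * s) x} = Nat.card {x : G // IsConj g x} :=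
      Nat.card_congr (Equiv.subtypeEquivRight fun x => ⟨hs'.symm.trans, hs'.trans⟩)
    have e1 := CfsgLib.Invol.card_conjugates_mul (s * s)
    rw [e, ← CfsgLib.Invol.card_conjugates_mul g] at e1
    haveI : Nonempty {x : G // IsConj g x} := ⟨⟨g, IsConj.refl g⟩⟩
    exact congrArg Nat.cast (Nat.eq_of_mul_eq_mul_left Nat.card_pos e1)
  -- the square roots of the conjugates of `g`
  have hfib : Nat.card {s : G // IsConj (s * s) g} =
      Nat.card {x : G // IsConj g x} * Nat.card {s : G // s * s = g} := by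
    let e : {s : G // IsConj (s * s) g} ≃ Σ x : {x : G // IsConj g x}, {s : G // s * s = x} :=
      { toFun := fun s => ⟨⟨s.1 * s.1, s.2.symm⟩, s.1, rfl⟩
        invFun := fun p => ⟨p.2.1, by rw [p.2.2]; exact p.1.2.symm⟩
        left_inv := fun s => rfl
        right_inv := fun ⟨⟨x, hx⟩, ⟨s, hs⟩⟩ => by obtain rfl : s * s = x := hs; rfl }
    haveI : Fintype {x : G // IsConj g x} := Fintype.ofFinite _
    rw [Nat.card_congr e, Nat.card_sigma, Finset.sum_congr rfl
      (g := fun _ => Nat.card {s : G // s * s = g}) fun x _ => ?_, Finset.sum_const, Finset.card_univ,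
      ← Nat.card_eq_fintype_card, smul_eq_mul]
    obtain ⟨k, hk⟩ := isConj_iff.mp x.2
    refine (Nat.card_congr ((MulAut.conj k).toEquiv.subtypeEquiv fun s => ?_)).symm
    show s * s = g ↔ k * s * k⁻¹ * (k * s * k⁻¹) = x
    rw [← hk, show k * s * k⁻¹ * (k * s * k⁻¹) = k * (s * s) * k⁻¹ by group]
    simp
  rw [hfib]
  have h2 := CfsgLib.Invol.card_conjugates_mul g
  have h3 : (Nat.card {x : G // IsConj g x} : ℂ) * (Nat.card (centralizer ({g} : Set G)) : ℂ) =
      (Nat.card G : ℂ) := by exact_mod_cast h2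
  push_cast
  field_simp
  linear_combination -(Nat.card {s : G // s * s = g} : ℂ) * h3

end CfsgLib.MTwelveUnique
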