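import Cfsg.Agent.Lib.SmallGroups.DegreeEleven.Basic
import Cfsg.Agent.Lib.SmallGroups.DegreeEleven.Main
import Cfsg.Agent.Lib.SmallGroups.Basic
import Cfsg.Agent.Lib.SmallGroups.AbelianSylow
import Cfsg.Agent.Lib.SmallGroups.Order459648.Local
import Cfsg.Agent.Lib.Golay.Sharp
import Mathlib

/-!
General facts for the local analysis of a simple group of order 95040.
-/

set_option autoImplicit false

noncomputable section

namespace CfsgLib.MTwelveUnique

open Subgroup Equiv MulAction
attribute [local instance] Classical.propDecidable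

/-- An element of prime order centralises a subgroup it normalises as soon as no proper divisor of
the order is congruent to it. -/
theorem centralizes_of_modEq {G : Type*} [Group G] [Finite G] {p : ℕ} [Fact p.Prime] (R : Subgroup G)
    {x : G} (hx : x ^ p = 1) (hN : x ∈ normalizer (R : Set G))
    (hR : ∀ d ∈ Nat.divisors (Nat.card R), d % p = Nat.card R % p → d = Nat.card R) :
    R ≤ centralizer ({x} : Set G) := by
  classical
  haveI := Fintype.ofFinite R
  let σ : Perm R :=
    { toFun := fun r => ⟨x * r * x⁻¹, (hN r).mp r.2⟩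
      invFun := fun r => ⟨x⁻¹ * r * x, by
        have h := (inv_mem hN : x⁻¹ ∈ normalizer (R : Set G)) r
        rw [inv_inv] at h
        exact h.mp r.2⟩
      left_inv := fun r => Subtype.ext (by simp [mul_assoc])
      right_inv := fun r => Subtype.ext (by simp [mul_assoc]) }
  have hpow : ∀ (n : ℕ) (r : R), (((σ ^ n) r : R) : G) = x ^ n * r * (x ^ n)⁻¹ := by
    intro n
    induction n with
    | zero => intro r; simp
    | succ n ih =>
      intro r
      rw [pow_succ', Perm.mul_apply, pow_succ', mul_inv_rev]
      show x * (((σ ^ n) r : R) : G) * x⁻¹ = _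
      rw [ih]; group
  have hσ : σ ^ p = 1 := by
    ext r
    rw [hpow, hx]; simp
  have h := CfsgLib.SmallGroups.DegreeEleven.card_filter_fixed_modEq (p := p) σ hσ Finset.univ
    (fun z => by simp)
  set F := R ⊓ centralizer ({x} : Set G) with hF
  have hFc : (Finset.univ.filter fun r : R => σ r = r).card = Nat.card F := by
    have e : Nat.card F = Nat.card {r : R // (r : G) ∈ centralizer ({x} : Set G)} :=
      (Nat.card_congr (Equiv.subtypeSubtypeEquivSubtypeInter (fun g => g ∈ R)
        (fun g => g ∈ centralizer ({x} : Set G)))).symm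
    rw [e, Nat.card_eq_fintype_card, Fintype.card_subtype]
    refine congrArg Finset.card (Finset.filter_congr fun r _ => ?_)
    rw [mem_centralizer_singleton_iff, Subtype.ext_iff]
    show x * r * x⁻¹ = (r : G) ↔ _
    rw [mul_inv_eq_iff_eq_mul]
    exact eq_comm
  rw [hFc, Finset.card_univ, ← Nat.card_eq_fintype_card] at h
  have hd := hR (Nat.card F) (Nat.mem_divisors.mpr
    ⟨card_dvd_of_le inf_le_left, Nat.card_pos.ne'⟩) h
  exact inf_eq_left.mp (eq_of_le_of_card_ge inf_le_left hd.ge)

variable {G : Type*} [Group G] [Finite G] [IsSimpleGroup G] (hG : Nat.card G = 95040)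

include hG in
theorem not_comm : ¬ IsMulCommutative G :=
  CfsgLib.SmallGroups.not_isMulCommutative_of_not_prime (by rw [hG]; norm_num)

include hG in
theorem perfect : commutator G = ⊤ :=
  CfsgLib.SmallGroups.commutator_eq_top_of_simple (not_comm hG)

include hG in
theorem linear_trivial (f : G →* ℂˣ) : f = 1 := by
  ext g
  have hg : g ∈ f.ker := Abelianization.commutator_subset_ker f (by rw [perfect hG]; exact mem_top g)
  exact congrArg Units.val (MonoidHom.mem_ker.mp hg)

/-- The permutation representation on the cosets of a proper subgroup is faithful. -/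
theorem coset_injective {M : Subgroup G} (hM : M ≠ ⊤) :
    Function.Injective (MulAction.toPermHom G (G ⧸ M)) := by
  obtain ⟨g, hg⟩ : ∃ g, g ∉ M := by
    by_contra h
    push Not at h
    exact hM (eq_top_iff.mpr fun g _ => h g)
  refine CfsgLib.SmallGroups.toPermHom_injective_of_not_trivial ⟨g, ((1 : G) : G ⧸ M), fun h => hg ?_⟩
  rw [MulAction.Quotient.smul_coe, smul_eq_mul, mul_one, QuotientGroup.eq, mul_one] at h
  exact inv_mem_iff.mp h

include hG in
theorem index_ne_eleven (M : Subgroup G) : M.index ≠ 11 := by
  intro h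
  classical
  haveI : Fact (Nat.Prime 11) := ⟨by norm_num⟩
  haveI : Fintype (G ⧸ M) := Fintype.ofFinite _
  have hM : M ≠ ⊤ := fun e => by rw [e, index_top] at h; norm_num at h
  set φ := MulAction.toPermHom G (G ⧸ M) with hφ
  have hφi := coset_injective hM
  have hα : Fintype.card (G ⧸ M) = 11 := by rw [← Nat.card_eq_fintype_card]; exact h
  set I := φ.range with hI
  have hIc : Nat.card I = 95040 := by
    rw [← hG]; exact (Nat.card_congr (MonoidHom.ofInjective hφi).toEquiv).symm
  haveI : IsPretransitive I (G ⧸ M) := ⟨fun a b => by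
    obtain ⟨g, hg⟩ := exists_smul_eq G a b
    exact ⟨⟨φ g, g, rfl⟩, hg⟩⟩
  have hns : ¬ Group.IsSolvable I := fun hs => not_comm hG (by
    haveI : Group.IsSolvable G := Group.isSolvable_of_isSolvable_injective
      (f := (MonoidHom.ofInjective hφi).toMonoidHom) (MonoidHom.ofInjective hφi).injective
    exact IsSimpleGroup.comm_iff_isSolvable.mpr ‹_› |> fun hc => ⟨⟨fun a b => hc a b⟩⟩)
  have hA : ¬ alternatingGroup (G ⧸ M) ≤ I := fun hle => by
    have hd := Subgroup.card_dvd_of_le hle
    haveI : Nontrivial (G ⧸ M) := Fintype.one_lt_card_iff_nontrivial.mp (by omega)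
    rw [hIc, Nat.card_eq_fintype_card (α := ↥(alternatingGroup (G ⧸ M))), card_alternatingGroup, hα] at hd
    norm_num [Nat.factorial] at hd
  have hH : I ≤ alternatingGroup (G ⧸ M) := by
    rintro _ ⟨g, rfl⟩
    exact Perm.mem_alternatingGroup.mpr (CfsgLib.SmallGroups.sign_eq_one_of_simple (not_comm hG) φ g)
  rcases CfsgLib.SmallGroups.DegreeEleven.card_eq hα hns hA hH with e | e <;>
    rw [hIc] at e <;> norm_num at e

include hG in
/-- With a subgroup of index twelve an element of order eleven is self-centralising. -/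
theorem centralizer_le_of_index_twelve (M : Subgroup G) (h : M.index = 12) {x : G}
    (hx : orderOf x = 11) : Nat.card (centralizer ({x} : Set G)) ≤ 11 := by
  classical
  haveI : Fact (Nat.Prime 11) := ⟨by norm_num⟩
  haveI : Fintype (G ⧸ M) := Fintype.ofFinite _
  have hM : M ≠ ⊤ := fun e => by rw [e, index_top] at h; norm_num at h
  set φ := MulAction.toPermHom G (G ⧸ M) with hφ
  have hφi := coset_injective hM
  have hα : Fintype.card (G ⧸ M) = 12 := by rw [← Nat.card_eq_fintype_card]; exact h
  have hσ : orderOf (φ x) = 11 := by rw [orderOf_injective φ hφi, hx]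
  have hcyc : (φ x).IsCycle := Equiv.Perm.isCycle_of_prime_order' (by rw [hσ]; norm_num) (by rw [hα, hσ]; norm_num)
  have hsup : (φ x).support.card = 11 := by rw [← hcyc.orderOf]; exact hσ
  have hc : Nat.card (centralizer ({φ x} : Set (Perm (G ⧸ M)))) = 11 := by
    rw [Equiv.Perm.nat_card_centralizer, hcyc.cycleType, hα, hsup]
    simp
  let ψ : centralizer ({x} : Set G) → centralizer ({φ x} : Set (Perm (G ⧸ M))) := fun c =>
    ⟨φ c, mem_centralizer_singleton_iff.mpr (by
      rw [← map_mul, ← map_mul, mem_centralizer_singleton_iff.mp c.2])⟩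
  exact hc ▸ Nat.card_le_card_of_injective ψ fun a b e => Subtype.ext (hφi (congrArg Subtype.val e))

end CfsgLib.MTwelveUnique
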